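import Groth.Agent.HodgeIdxLib.Index
import Groth.Agent.BlowUpLib.Strict
import Groth.Agent.ChowLib.ChowAll
import Groth.Agent.ModPairLib.Basic

/-!
# The index theorem on a proper surface
-/

set_option autoImplicit false
set_option linter.style.haveILetI false
universe u

open CategoryTheory CategoryTheory.Limits AlgebraicGeometry TopologicalSpace Opposite
open HilbPolyLib DevissLib IntMultLib IntFunLib
open KFlatLib (pb)

noncomputable section

namespace HodgeIdxLib

theorem support_push_le {X Y : Scheme.{u}} (g : Y ⟶ X) (G : Y.Modules) {S : Set X} (hS : IsClosed S)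
    (h : CohB1.support G ⊆ g ⁻¹' S) : CohB1.support ((Coh.push g).obj G) ⊆ S := by
  intro x hx
  by_contra hn
  refine hx ((QCohLib.subsingleton_stalk_iff _ x).mpr fun W hxW t => ?_)
  refine ⟨W ⊓ ⟨Sᶜ, hS.isOpen_compl⟩, inf_le_left, ⟨hxW, hn⟩, ?_⟩
  refine TopCat.Presheaf.section_ext ((QCohLib.toAbF Y).obj G : TopCat.Sheaf AddCommGrpCat _)
    (g ⁻¹ᵁ (W ⊓ ⟨Sᶜ, hS.isOpen_compl⟩)) _ _ fun q hq => ?_
  have : Subsingleton ((TopCat.Sheaf.presheaf ((QCohLib.toAbF Y).obj G)).stalk q) := by
    by_contra hne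
    exact hq.2 (h hne)
  exact Subsingleton.elim _ _

theorem mem_support_push_unit {X T : Scheme.{u}} (g : T ⟶ X) (t : T) :
    g t ∈ CohB1.support ((Coh.push g).obj (Coh.structureModule T)) := by
  intro hsub
  obtain ⟨W, hle, hW, hz⟩ := (QCohLib.subsingleton_stalk_iff _ _).mp hsub ⊤ trivial (1 : Γ(T, ⊤))
  have h1 : (1 : Γ(T, g ⁻¹ᵁ W)) = 0 := (map_one (T.presheaf.map (homOfLE le_top).op).hom).symm.trans hz
  have h2 := congrArg (T.presheaf.germ (g ⁻¹ᵁ W) t hW) h1
  rw [map_one, map_zero] at h2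
  exact one_ne_zero h2

variable {k : Type u} [Field k] {X : Scheme.{u}} [X.Over (Spec (CommRingCat.of k))]
  [IsProper (X ↘ Spec (CommRingCat.of k))]

/-- Numbers of a module supported on an irreducible closed set of the right dimension. -/
theorem exists_mult {F : X.Modules} (hF : Coh.IsCoh F) {ξ : X} (hs : CohB1.support F ⊆ closure {ξ})
    (hξ : ξ ∈ CohB1.support F) {n : ℕ} (hd : topologicalKrullDim (closure ({ξ} : Set X)) = (n : WithBot ℕ∞)) :
    ∃ c : ℤ, 0 < c ∧ ∀ l : List X.Modules, (∀ A ∈ l, PicF.IsInvertible A) → l.length = n →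
      N k l F = c * N k l (Fpt ξ) := by
  haveI := CurvLib.isNoetherian k (X := X)
  have key : ∀ l : List X.Modules, (∀ A ∈ l, PicF.IsInvertible A) → l.length = n →
      len F ξ ≠ ⊤ ∧ N k l F = (len F ξ).toNat • N k l (Fpt ξ) := by
    intro l hl hlen
    obtain ⟨T, hT, hfin, hsum⟩ := N_sum (k := k) hl hF ⟨ξ, hξ⟩ ((dim_mono hs).trans (by rw [hd, hlen]))
    have hT' : T = {ξ} := Finset.ext fun y => by
      rw [hT, Finset.mem_singleton, hlen]
      refine ⟨fun ⟨hy, hyd⟩ => ?_, fun hy => by subst hy; exact ⟨hξ, hd⟩⟩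
      exact (eq_of_specializes_of_dim isClosed_closure hd.le hyd (subset_closure rfl)
        (specializes_iff_mem_closure.mpr (hs hy))).symm
    rw [hsum, hT', Finset.sum_singleton]
    exact ⟨hfin ξ (hT' ▸ Finset.mem_singleton_self ξ), rfl⟩
  refine ⟨((len F ξ).toNat : ℤ), ?_, fun l hl hlen => by rw [(key l hl hlen).2, nsmul_eq_mul]⟩
  have hlen := (key (List.replicate n (Coh.structureModule X)) (fun A hA => by
    rw [List.eq_of_mem_replicate hA]; exact CurvLib.isInvertible_structureModule) List.length_replicate).1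
  refine Int.natCast_pos.mpr (Nat.pos_of_ne_zero fun h => ?_)
  rcases ENat.toNat_eq_zero.mp h with h | h
  · exact hξ (Module.length_eq_zero_iff.mp h)
  · exact hlen h

/-- A projective surface over `closure {ξ}` on which the preimage of `closure {c}` is a divisor. -/
theorem exists_surface {ξ c : X} (hξ : topologicalKrullDim (closure ({ξ} : Set X)) = ((2 : ℕ) : WithBot ℕ∞))
    (hc : c ∈ closure ({ξ} : Set X)) (hξc : ξ ∉ closure ({c} : Set X)) :
    ∃ (Z : Scheme.{u}) (_ : Z.Over (Spec (CommRingCat.of k))) (_ : IsProper (Z ↘ Spec (CommRingCat.of k)))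
      (_ : IsIntegral Z) (h : Z ⟶ X) (A : Z.Modules) (J : Z.IdealSheafData),
      h ≫ (X ↘ Spec (CommRingCat.of k)) = Z ↘ Spec (CommRingCat.of k) ∧ CohB1.IsAmple A ∧
      topologicalKrullDim Z = ((2 : ℕ) : WithBot ℕ∞) ∧ h (genericPoint Z) = ξ ∧
      BlowUp.IsEffCartierIdeal J ∧ (J.support : Set Z) = h ⁻¹' closure {c} ∧
      genericPoint Z ∉ (J.support : Set Z) ∧ c ∈ Set.range h := by
  haveI := CurvLib.isNoetherian k (X := X)
  haveI := isIntegral_ptIdeal ξ
  let W := (ptIdeal ξ).subscheme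
  let g0 : W ⟶ X := (ptIdeal ξ).subschemeι
  letI : W.Over (Spec (CommRingCat.of k)) := ⟨g0 ≫ (X ↘ Spec (CommRingCat.of k))⟩
  haveI : IsProper (W ↘ Spec (CommRingCat.of k)) :=
    inferInstanceAs (IsProper (g0 ≫ (X ↘ Spec (CommRingCat.of k))))
  haveI := CurvLib.isNoetherian k (X := W)
  have hgen : g0 (genericPoint W) = ξ := by
    refine IsGenericPoint.eq ?_ (isGenericPoint_closure (x := ξ))
    have := (genericPoint_spec W).image g0.continuous
    rwa [Set.image_univ, range_ptIdeal, closure_closure] at this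
  let 𝓘 : W.IdealSheafData := Scheme.IdealSheafData.vanishingIdeal
    ⟨g0 ⁻¹' closure {c}, isClosed_closure.preimage g0.continuous⟩
  have h𝓘s : (𝓘.support : Set W) = g0 ⁻¹' closure {c} := Scheme.IdealSheafData.coe_support_vanishingIdeal _
  have h𝓘0 : 𝓘 ≠ ⊥ := fun h => by
    refine hξc ?_
    rw [← hgen]
    have : genericPoint W ∈ (𝓘.support : Set W) := by rw [h, Scheme.IdealSheafData.support_bot]; trivial
    rwa [h𝓘s] at this
  obtain ⟨W1, b, hb⟩ := BlowUpLib.exists_isBlowUp W 𝓘
  haveI : IsProper b := BlowUpLib.isProper_of_isBlowUp hb fun V =>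
    haveI := IsLocallyNoetherian.component_noetherian V
    IsNoetherian.noetherian _
  obtain ⟨hW1, hbgen, -⟩ := BlowUpLib.isIntegral_of_isBlowUp hb h𝓘0
  let g1 : W1 ⟶ X := b ≫ g0
  letI : W1.Over (Spec (CommRingCat.of k)) := ⟨g1 ≫ (X ↘ Spec (CommRingCat.of k))⟩
  haveI : IsProper (W1 ↘ Spec (CommRingCat.of k)) :=
    inferInstanceAs (IsProper (g1 ≫ (X ↘ Spec (CommRingCat.of k))))
  haveI := CurvLib.isNoetherian k (X := W1)
  obtain ⟨n, X', π, i, hi, hib, hπ, hsurj, -⟩ := ChowLib.chow_all (W1 ↘ Spec (CommRingCat.of k))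
  haveI := hπ
  haveI := hi
  haveI : IsProper (i ≫ CohB1.ProjSpaceOver.toBase n (Spec (CommRingCat.of k))) := by
    rw [hib]; infer_instance
  let f := i ≫ CohB1.ProjSpaceOver.toBase n (Spec (CommRingCat.of k))
  let U := f ⁻¹ᵁ (⊤ : (Spec (CommRingCat.of k)).Opens)
  have hamp := PnCohLib.isAmple_twist_restrict (i := i) (W := (⊤ : (Spec (CommRingCat.of k)).Opens))
    (isAffineOpen_top _)
  haveI : IsIso U.ι := by
    exact (inferInstance : IsIso X'.topIso.hom)
  let p : U.toScheme ⟶ W1 := U.ι ≫ π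
  let g : U.toScheme ⟶ X := p ≫ g1
  letI : U.toScheme.Over (Spec (CommRingCat.of k)) := ⟨g ≫ (X ↘ Spec (CommRingCat.of k))⟩
  haveI : IsProper (U.toScheme ↘ Spec (CommRingCat.of k)) :=
    inferInstanceAs (IsProper (g ≫ (X ↘ Spec (CommRingCat.of k))))
  haveI := CurvLib.isNoetherian k (X := U.toScheme)
  have hrfl : g ≫ (X ↘ Spec (CommRingCat.of k)) = U.toScheme ↘ Spec (CommRingCat.of k) := rfl
  have hr : ξ ∈ Set.range g := by
    obtain ⟨x, hx⟩ := hsurj.1 (genericPoint W1)
    refine ⟨⟨x, trivial⟩, ?_⟩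
    change g0 (b (π x)) = ξ
    rw [hx, hbgen, hgen]
  obtain ⟨x, hx, hxd⟩ := exists_point_over hrfl ξ hr
  rw [hξ] at hxd
  haveI := isIntegral_ptIdeal x
  let Z := (ptIdeal x).subscheme
  let ι : Z ⟶ U.toScheme := (ptIdeal x).subschemeι
  let h : Z ⟶ X := ι ≫ g
  letI : Z.Over (Spec (CommRingCat.of k)) := ⟨h ≫ (X ↘ Spec (CommRingCat.of k))⟩
  haveI : IsProper (Z ↘ Spec (CommRingCat.of k)) :=
    inferInstanceAs (IsProper (h ≫ (X ↘ Spec (CommRingCat.of k))))
  have hιgen : ι (genericPoint Z) = x := by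
    refine IsGenericPoint.eq ?_ (isGenericPoint_closure (x := x))
    have := (genericPoint_spec Z).image ι.continuous
    rwa [Set.image_univ, range_ptIdeal, closure_closure] at this
  have hgenZ : h (genericPoint Z) = ξ := by
    change g (ι (genericPoint Z)) = ξ
    rw [hιgen, hx]
  let t : Z ⟶ W1 := ι ≫ p
  let K : W1.IdealSheafData := 𝓘.comap b
  let J : Z.IdealSheafData := K.comap t
  have hJs : (J.support : Set Z) = h ⁻¹' closure {c} := by
    change ((K.comap t).support : Set Z) = _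
    rw [Scheme.IdealSheafData.support_comap, Scheme.IdealSheafData.support_comap]
    change t ⁻¹' (b ⁻¹' (𝓘.support : Set W)) = _
    rw [h𝓘s]
    rfl
  have hgJ : genericPoint Z ∉ (J.support : Set Z) := by
    rw [hJs, Set.mem_preimage, hgenZ]; exact hξc
  let V : Z.Opens := t ⁻¹ᵁ ModPair.interior K
  have hVgen : genericPoint Z ∈ V := by
    change t (genericPoint Z) ∉ K.support
    intro hmem
    refine hgJ ?_
    change genericPoint Z ∈ ((K.comap t).support : Set Z)
    rw [Scheme.IdealSheafData.support_comap]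
    exact hmem
  haveI : IsNoetherian Z := CurvLib.isNoetherian k (X := Z)
  haveI : IsDominant V.ι := ⟨by
    rw [DenseRange, Scheme.Opens.range_ι]
    exact dense_iff_closure_eq.mpr (Set.univ_subset_iff.mp
      ((genericPoint_spec Z).def.ge.trans (closure_mono (Set.singleton_subset_iff.mpr hVgen))))⟩
  haveI := IsSchemeTheoreticallyDominant.of_isDominant V.ι
  have hJ : BlowUp.IsEffCartierIdeal J := ModPairLib.isEffCartier_comap_of_dominant hb.1 t V.ι fun z => z.2
  haveI : IsProper h := isProper_g (rfl : h ≫ (X ↘ Spec (CommRingCat.of k)) = Z ↘ Spec (CommRingCat.of k))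
  refine ⟨Z, ‹_›, ‹_›, ‹_›, h, pb ι _, J, rfl, AmpleDevLib.isAmple_pb ι hamp.1 hamp, ?_, hgenZ, hJ, hJs, hgJ, ?_⟩
  · rw [← hxd]
    exact (ι.isEmbedding.toHomeomorph.trans
      (Homeomorph.setCongr (range_ptIdeal x))).isHomeomorph.topologicalKrullDim_eq
  · have hcl : IsClosed (Set.range h) := h.isClosedMap.isClosed_range
    exact (hcl.closure_subset_iff.mpr (Set.singleton_subset_iff.mpr ⟨_, hgenZ⟩)) hc

theorem pr_mult {l : List X.Modules} (hl : ∀ A ∈ l, PicF.IsInvertible A) {Z : Scheme.{u}}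
    [Z.Over (Spec (CommRingCat.of k))] [IsProper (Z ↘ Spec (CommRingCat.of k))] {h : Z ⟶ X}
    (hh : h ≫ (X ↘ Spec (CommRingCat.of k)) = Z ↘ Spec (CommRingCat.of k))
    (hd : topologicalKrullDim Z ≤ (l.length : ℕ)) :
    N k (l.map (pb h)) (Coh.structureModule Z) = N k l ((Coh.push h).obj (Coh.structureModule Z)) :=
  N_push hh hl (DevissLib.isCoh_structureModule Z) ((topologicalKrullDim_subspace_le _ _).trans hd)

theorem quot_numbers_zero [IsIntegral X] (hX2 : topologicalKrullDim X = ((2 : ℕ) : WithBot ℕ∞)) {L : X.Modules}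
    (hL : PicF.IsInvertible L) (h : ∀ M : X.Modules, PicF.IsInvertible M → pr k L M = 0)
    {J : X.IdealSheafData} (hJ : BlowUp.IsEffCartierIdeal J) : N k [L] (ClSub.quotMod J) = 0 := by
  haveI := CurvLib.isNoetherian k (X := X)
  have hI := IntMultLib.isInvertible_idealMod J hJ
  have hadd := N_add (k := k) (l := [L]) (by simpa using hL) (CurvLib.idealSeq_shortExact J)
    (CurvLib.isCoh_of_isInvertible hI) (DevissLib.isCoh_structureModule X) (CurvLib.isCoh_quotMod J)
  change N k [L] (Coh.structureModule X) = N k [L] (ClSub.idealMod J) + N k [L] (ClSub.quotMod J) at hadd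
  have h0 := h _ hI
  rw [pr_comm, pr, N_unit] at h0
  omega

/-- **The index theorem on a proper surface.** -/
theorem N_eq_zero_of_index {ξ c : X} (hξ : topologicalKrullDim (closure ({ξ} : Set X)) = ((2 : ℕ) : WithBot ℕ∞))
    (hc : c ∈ closure ({ξ} : Set X)) (hcd : topologicalKrullDim (closure ({c} : Set X)) = ((1 : ℕ) : WithBot ℕ∞))
    {H L : X.Modules} (hH : PicF.IsInvertible H) (hL : PicF.IsInvertible L)
    (hpos : 0 < N k [H, H] (Fpt ξ)) (horth : N k [L, H] (Fpt ξ) = 0) (hsq : 0 ≤ N k [L, L] (Fpt ξ)) :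
    N k [L] (Fpt c) = 0 := by
  have hξc : ξ ∉ closure ({c} : Set X) := fun h => by
    have hle := dim_mono (isClosed_closure.closure_subset_iff.mpr (Set.singleton_subset_iff.mpr h))
    rw [hξ, hcd] at hle
    have : (2 : ℕ) ≤ 1 := by exact_mod_cast hle
    omega
  obtain ⟨Z, iZ, hZp, hZi, h, A, J, hh, hA, hZd, hgen, hJ, hJs, hgJ, ⟨z, hz⟩⟩ := exists_surface (k := k) hξ hc hξc
  haveI := CurvLib.isNoetherian k (X := X)
  haveI := CurvLib.isNoetherian k (X := Z)
  haveI : IsProper h := isProper_g hh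
  have hOc := FormalCohLib.isCoh_push_proper h (DevissLib.isCoh_structureModule Z)
  have hs : CohB1.support ((Coh.push h).obj (Coh.structureModule Z)) ⊆ closure {ξ} := by
    refine support_push_le h _ isClosed_closure fun w _ => ?_
    rw [Set.mem_preimage, ← hgen]
    exact specializes_iff_mem_closure.mp (((genericPoint_spec Z).specializes trivial).map h.continuous)
  have hmem : ξ ∈ CohB1.support ((Coh.push h).obj (Coh.structureModule Z)) :=
    hgen ▸ mem_support_push_unit h (genericPoint Z)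
  obtain ⟨m, hm, hmult⟩ := exists_mult (k := k) hOc hs hmem hξ
  have hpb : ∀ {P Q : X.Modules}, PicF.IsInvertible P → PicF.IsInvertible Q →
      pr k (pb h P) (pb h Q) = m * N k [P, Q] (Fpt ξ) := by
    intro P Q hP hQ
    rw [← hmult [P, Q] (by simp [hP, hQ]) rfl, ← pr_mult (l := [P, Q]) (by simp [hP, hQ]) hh hZd.le]
    rfl
  have hidx : ∀ M : Z.Modules, PicF.IsInvertible M → pr k (pb h L) M = 0 := fun M hM =>
    index hZd hA (AmpleDevLib.isInvertible_pb h hH) (AmpleDevLib.isInvertible_pb h hL)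
      (by rw [hpb hH hH]; exact mul_pos hm hpos) (by rw [hpb hL hH, horth, mul_zero])
      (by rw [hpb hL hL]; exact mul_nonneg hm.le hsq) hM
  have h0 := quot_numbers_zero hZd (AmpleDevLib.isInvertible_pb h hL) hidx hJ
  have hQ := CurvLib.isCoh_quotMod J
  have hJd : topologicalKrullDim (CohB1.support (ClSub.quotMod J)) ≤ (1 : ℕ) := by
    refine (dim_mono (CurvLib.support_quotMod_subset J)).trans (dim_le_iff.mp (dim_lt_of_notMem
      J.support.isClosed (fun w _ => ?_) hgJ (Y := Set.univ) (Set.subset_univ _)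
      (dim_le_iff.mpr ((topologicalKrullDim_subspace_le _ _).trans hZd.le))))
    rw [(genericPoint_spec Z).def]; exact trivial
  have hpush : N k [L] ((Coh.push h).obj (ClSub.quotMod J)) = 0 :=
    (N_push hh (l := [L]) (by simpa using hL) hQ hJd).symm.trans h0
  have hsJ : CohB1.support ((Coh.push h).obj (ClSub.quotMod J)) ⊆ closure {c} :=
    support_push_le h _ isClosed_closure ((CurvLib.support_quotMod_subset J).trans hJs.le)
  have hmemJ : c ∈ CohB1.support ((Coh.push h).obj (ClSub.quotMod J)) := by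
    have hzJ : z ∈ (J.support : Set Z) := by rw [hJs, Set.mem_preimage, hz]; exact subset_closure rfl
    rw [← J.range_subschemeι] at hzJ
    obtain ⟨w, hw⟩ := hzJ
    let e : (Coh.push h).obj (ClSub.quotMod J) ≅ (Coh.push (J.subschemeι ≫ h)).obj (Coh.structureModule J.subscheme) :=
      (Scheme.Modules.pushforwardComp J.subschemeι h).app _
    rw [DevissLib.support_iso e, ← hz, ← hw]
    exact mem_support_push_unit (J.subschemeι ≫ h) w
  obtain ⟨m', hm', hmult'⟩ := exists_mult (k := k) (FormalCohLib.isCoh_push_proper h hQ) hsJ hmemJ hcd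
  rw [hmult' [L] (by simpa using hL) rfl] at hpush
  rcases mul_eq_zero.mp hpush with h | h
  · omega
  · exact h

theorem N_inv_head {A A' : X.Modules} (hA : PicF.IsInvertible A) (hA' : PicF.IsInvertible A')
    (e : CohB1.tensorMod A A' ≅ Coh.structureModule X) {l : List X.Modules} (hl : ∀ B ∈ l, PicF.IsInvertible B)
    {F : X.Modules} (hF : Coh.IsCoh F) (hd : topologicalKrullDim (CohB1.support F) ≤ (l.length + 1 : ℕ)) :
    N k (A' :: l) F = -N k (A :: l) F := by
  have h := N_tensor (k := k) hl hA hA' hF hd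
  rw [N_congr_head e] at h
  have h0 : N k (Coh.structureModule X :: l) F = 0 := by
    rw [N, N_congr l (unitLeft F), sub_self]
  omega

end HodgeIdxLib
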