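import Groth.Agent.HodgeIdxLib.Light
import Groth.Agent.MiscFlat6.InvDual

/-!
# The index theorem on a projective integral surface
-/

set_option autoImplicit false
set_option linter.style.haveILetI false
universe u

open CategoryTheory CategoryTheory.Limits AlgebraicGeometry TopologicalSpace Opposite
open HilbPolyLib DevissLib IntMultLib IntFunLib

noncomputable section

namespace HodgeIdxLib

variable {k : Type u} [Field k] {X : Scheme.{u}} [X.Over (Spec (CommRingCat.of k))]
  [IsProper (X ↘ Spec (CommRingCat.of k))]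

/-- The pairing of two invertible modules. -/
def pr (k : Type u) [Field k] {X : Scheme.{u}} [X.Over (Spec (CommRingCat.of k))] (P Q : X.Modules) : ℤ :=
  N k [P, Q] (Coh.structureModule X)

theorem N_congr_head {A A' : X.Modules} (e : A ≅ A') (l : List X.Modules) (F : X.Modules) :
    N k (A :: l) F = N k (A' :: l) F := by
  rw [N, N, N_congr l (congrLeft e F)]

variable (hX : topologicalKrullDim X ≤ (2 : ℕ))

theorem pr_comm (P Q : X.Modules) : pr k P Q = pr k Q P := N_perm (List.Perm.swap Q P []) _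

include hX

theorem pr_tensor {P P' Q : X.Modules} (hP : PicF.IsInvertible P) (hP' : PicF.IsInvertible P')
    (hQ : PicF.IsInvertible Q) : pr k (CohB1.tensorMod P P') Q = pr k P Q + pr k P' Q :=
  N_tensor (l := [Q]) (by simpa using hQ) hP hP' (DevissLib.isCoh_structureModule X)
    ((topologicalKrullDim_subspace_le _ _).trans hX)

omit hX in
theorem pr_unit (Q : X.Modules) : pr k (Coh.structureModule X) Q = 0 := by
  rw [pr, N_unit, sub_self]

theorem pr_inverse {P P' Q : X.Modules} (hP : PicF.IsInvertible P) (hP' : PicF.IsInvertible P')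
    (hQ : PicF.IsInvertible Q) (e : CohB1.tensorMod P P' ≅ Coh.structureModule X) :
    pr k P' Q = -pr k P Q := by
  have h := pr_tensor (k := k) hX hP hP' hQ
  rw [pr, N_congr_head e] at h
  have h0 := pr_unit (k := k) (X := X) Q
  simp only [pr] at h h0 ⊢
  omega

theorem exists_smul {P : X.Modules} (hP : PicF.IsInvertible P) (p : ℤ) :
    ∃ M : X.Modules, PicF.IsInvertible M ∧ ∀ Q : X.Modules, PicF.IsInvertible Q → pr k M Q = p * pr k P Q := by
  rcases le_total 0 p with hp | hp
  · refine ⟨CohB1.tensorPow P p.toNat, AmpleThLib.tensorPow_isInvertible hP _, fun Q hQ => ?_⟩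
    rw [pr, N2_pow_left hX hP hQ, Int.toNat_of_nonneg hp]
    rfl
  · have hD := MiscFlat6.dual_isInvertible hP
    refine ⟨CohB1.tensorPow (MiscFlat6.dual P) (-p).toNat, AmpleThLib.tensorPow_isInvertible hD _, fun Q hQ => ?_⟩
    rw [pr, N2_pow_left hX hD hQ, Int.toNat_of_nonneg (neg_nonneg.mpr hp)]
    change -p * pr k (MiscFlat6.dual P) Q = p * pr k P Q
    rw [pr_inverse hX hP hD hQ (MiscFlat6.nonempty_dualIso hP).some]
    ring

theorem exists_comb {P P' : X.Modules} (hP : PicF.IsInvertible P) (hP' : PicF.IsInvertible P') (p p' : ℤ) :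
    ∃ M : X.Modules, PicF.IsInvertible M ∧
      ∀ Q : X.Modules, PicF.IsInvertible Q → pr k M Q = p * pr k P Q + p' * pr k P' Q := by
  obtain ⟨M, hM, h⟩ := exists_smul (k := k) hX hP p
  obtain ⟨M', hM', h'⟩ := exists_smul (k := k) hX hP' p'
  exact ⟨_, HilbPolyLib.isInvertible_tensor hM hM', fun Q hQ => by rw [pr_tensor hX hM hM' hQ, h Q hQ, h' Q hQ]⟩

omit hX

variable [IsIntegral X]

theorem pr_ample_pos (hX2 : topologicalKrullDim X = ((2 : ℕ) : WithBot ℕ∞)) {A : X.Modules}
    (hA : CohB1.IsAmple A) : 0 < pr k A A := N_ample_self_pos hX2 hA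

/-- The index inequality on the span of two classes. -/
theorem light₂ (hX2 : topologicalKrullDim X = ((2 : ℕ) : WithBot ℕ∞)) {A P Q : X.Modules} (hA : CohB1.IsAmple A)
    (hP : PicF.IsInvertible P) (hQ : PicF.IsInvertible Q) (x y : ℤ) (h : x * pr k P A + y * pr k Q A = 0) :
    x * x * pr k P P + 2 * (x * y) * pr k P Q + y * y * pr k Q Q ≤ 0 := by
  obtain ⟨D, hD, hDe⟩ := exists_comb (k := k) hX2.le hP hQ x y
  have h1 := light (k := k) hX2 hD hA (show N k [D, A] (Coh.structureModule X) = 0 from (hDe A hA.1).trans h)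
  change pr k D D ≤ 0 at h1
  rw [hDe D hD, pr_comm P D, pr_comm Q D, hDe P hP, hDe Q hQ, pr_comm Q P] at h1
  refine le_trans (le_of_eq ?_) h1
  ring

/-- Two classes: `(D·D)(A·A) ≤ (D·A)²`. -/
theorem mul_le_sq (hX2 : topologicalKrullDim X = ((2 : ℕ) : WithBot ℕ∞)) {A D : X.Modules} (hA : CohB1.IsAmple A)
    (hD : PicF.IsInvertible D) : pr k D D * pr k A A ≤ pr k D A ^ 2 := by
  have ha := pr_ample_pos (k := k) hX2 hA
  have h := light₂ (k := k) hX2 hA hD hA.1 (pr k A A) (-pr k D A) (by ring)
  nlinarith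

/-- **The index theorem**: a class of nonnegative square orthogonal to a class of positive square pairs to zero. -/
theorem index (hX2 : topologicalKrullDim X = ((2 : ℕ) : WithBot ℕ∞)) {A H L : X.Modules} (hA : CohB1.IsAmple A)
    (hH : PicF.IsInvertible H) (hL : PicF.IsInvertible L) (hpos : 0 < pr k H H) (horth : pr k L H = 0)
    (hsq : 0 ≤ pr k L L) {M : X.Modules} (hM : PicF.IsInvertible M) : pr k L M = 0 := by
  have ha := pr_ample_pos (k := k) hX2 hA
  have h1 := light₂ (k := k) hX2 hA hL hH (pr k H A) (-pr k L A) (by ring)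
  rw [horth] at h1
  have hLA : pr k L A = 0 := by
    by_contra hne
    have h3 : 0 < pr k L A * pr k L A := mul_self_pos.mpr hne
    nlinarith [mul_pos h3 hpos, mul_nonneg (mul_self_nonneg (pr k H A)) hsq]
  have hLL : pr k L L = 0 := by
    have h2 := light₂ (k := k) hX2 hA hL hH 1 0 (by rw [hLA]; ring)
    nlinarith
  obtain ⟨v, hv, hve⟩ := exists_comb (k := k) hX2.le hM hA.1 (pr k A A) (-pr k M A)
  have hvA : pr k v A = 0 := by rw [hve A hA.1]; ring
  have hLv : pr k L v = pr k A A * pr k L M := by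
    rw [pr_comm, hve L hL, pr_comm M L, pr_comm A L, hLA]; ring
  have h2 := light₂ (k := k) hX2 hA hL hv (pr k L v * (|pr k v v| + 1)) 1 (by rw [hLA, hvA]; ring)
  rw [hLL] at h2
  have hLv0 : pr k L v = 0 := by
    by_contra hne
    have h3 : 1 ≤ pr k L v * pr k L v := mul_self_pos.mpr hne
    nlinarith [abs_nonneg (pr k v v), neg_abs_le (pr k v v)]
  rw [hLv0] at hLv
  rcases mul_eq_zero.mp hLv.symm with h | h
  · omega
  · exact h

end HodgeIdxLib
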