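import Groth.Agent.IntFunLib.Kleiman
import Groth.Agent.CurvLib.RRBasic
import Groth.Agent.DevissLib.Induction

/-!
# Sections of twists of modules with support of dimension at most one
-/

set_option autoImplicit false
set_option linter.style.haveILetI false
universe u

open CategoryTheory CategoryTheory.Limits AlgebraicGeometry TopologicalSpace Opposite
open HilbPolyLib DevissLib IntMultLib IntFunLib
open KFlatLib (pb)

noncomputable section

namespace HodgeIdxLib

/-- The dimension of cohomology. -/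
def hh (k : Type u) [Field k] {X : Scheme.{u}} [X.Over (Spec (CommRingCat.of k))] (M : X.Modules) (p : ℕ) : ℕ :=
  Module.finrank k (Coh.HH X M p)

/-- The twist `D^m ⊗ A^s`. -/
def tw {X : Scheme.{u}} (D A : X.Modules) (m s : ℕ) : X.Modules :=
  CohB1.tensorMod (CohB1.tensorPow D m) (CohB1.tensorPow A s)

theorem tw_inv {X : Scheme.{u}} {D A : X.Modules} (hD : PicF.IsInvertible D) (hA : PicF.IsInvertible A) (m s : ℕ) :
    PicF.IsInvertible (tw D A m s) :=
  HilbPolyLib.isInvertible_tensor (AmpleThLib.tensorPow_isInvertible hD m) (AmpleThLib.tensorPow_isInvertible hA s)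

variable {k : Type u} [Field k] {X : Scheme.{u}} [X.Over (Spec (CommRingCat.of k))]

theorem hh_congr {M N : X.Modules} (e : M ≅ N) (p : ℕ) : hh k M p = hh k N p :=
  (CurvLib.hIso (k := k) e p).finrank_eq

variable [IsProper (X ↘ Spec (CommRingCat.of k))]

theorem finrank_le_mid {U V W : Type u} [AddCommGroup U] [AddCommGroup V] [AddCommGroup W] [Module k U]
    [Module k V] [Module k W] [Module.Finite k U] [Module.Finite k V] [Module.Finite k W] (f : U →ₗ[k] V)
    (g : V →ₗ[k] W) (h : LinearMap.range f = LinearMap.ker g) :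
    Module.finrank k V ≤ Module.finrank k U + Module.finrank k W := by
  have h1 := LinearMap.finrank_range_add_finrank_ker g
  have h2 := LinearMap.finrank_range_le f
  have h3 := Submodule.finrank_le (LinearMap.range g)
  rw [← h] at h1
  omega

section Exact

variable {S : ShortComplex X.Modules} (hS : S.ShortExact) (h₁ : Coh.IsCoh S.X₁) (h₂ : Coh.IsCoh S.X₂)
  (h₃ : Coh.IsCoh S.X₃)

include hS h₁ h₂ h₃

theorem hh_mid_le (p : ℕ) : hh k S.X₂ p ≤ hh k S.X₁ p + hh k S.X₃ p :=
  haveI := CurvLib.finite_HH (k := k) h₁ p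
  haveI := CurvLib.finite_HH (k := k) h₂ p
  haveI := CurvLib.finite_HH (k := k) h₃ p
  finrank_le_mid _ _ (CurvLib.exact₂ hS p)

theorem hh_right_le (p : ℕ) : hh k S.X₃ p ≤ hh k S.X₂ p + hh k S.X₁ (p + 1) :=
  haveI := CurvLib.finite_HH (k := k) h₁ (p + 1)
  haveI := CurvLib.finite_HH (k := k) h₂ p
  haveI := CurvLib.finite_HH (k := k) h₃ p
  finrank_le_mid _ _ (CurvLib.exact₃ hS p)

theorem hh_left_le (p : ℕ) : hh k S.X₁ (p + 1) ≤ hh k S.X₃ p + hh k S.X₂ (p + 1) :=
  haveI := CurvLib.finite_HH (k := k) h₁ (p + 1)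
  haveI := CurvLib.finite_HH (k := k) h₂ (p + 1)
  haveI := CurvLib.finite_HH (k := k) h₃ p
  finrank_le_mid _ _ (CurvLib.exact₁ hS p)

theorem hh_left_zero_le : hh k S.X₁ 0 ≤ hh k S.X₂ 0 :=
  haveI := CurvLib.finite_HH (k := k) h₂ 0
  LinearMap.finrank_le_finrank_of_injective (CurvLib.injective₀ hS)

end Exact

theorem hh_eq_zero {M : X.Modules} (hM : IsZero M) (p : ℕ) : hh k M p = 0 := by
  haveI : Subsingleton (Coh.HH X M p) := ⟨fun x y => by
    let S : ShortComplex X.Modules := ShortComplex.mk (𝟙 M) (𝟙 M) (hM.eq_of_src _ _)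
    have hS : S.ShortExact :=
      { exact := ShortComplex.exact_of_isZero_X₂ _ hM
        mono_f := inferInstanceAs (Mono (𝟙 M))
        epi_g := inferInstanceAs (Epi (𝟙 M)) }
    have h : ∀ z, CurvLib.hMap (k := k) (𝟙 M) p z = z := fun z => by
      rw [CurvLib.hMap_apply, CategoryTheory.Functor.map_id, Sheaf.H.map_id_apply]
    have h0 : ∀ z, z = (0 : Coh.HH X M p) := fun z => by
      have hz : z ∈ LinearMap.range (CurvLib.hMap (k := k) S.f p) := ⟨z, h z⟩
      rw [CurvLib.exact₂ hS p, LinearMap.mem_ker] at hz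
      exact (h z).symm.trans hz
    rw [h0 x, h0 y]⟩
  exact Module.finrank_zero_of_subsingleton

theorem hh_two_eq_zero {M : X.Modules} (hM : Coh.IsCoh M) (hd : topologicalKrullDim (CohB1.support M) ≤ (1 : ℕ))
    {p : ℕ} (hp : 2 ≤ p) : hh k M p = 0 := by
  haveI := CurvLib.isNoetherian k (X := X)
  haveI := CurvLib.subsingleton_HH_of_support_dim M hM.2 hd p (by omega)
  exact Module.finrank_zero_of_subsingleton

theorem euler_eq_of_dim_one {M : X.Modules} (hM : Coh.IsCoh M) (hd : topologicalKrullDim (CohB1.support M) ≤ (1 : ℕ)) :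
    Curv2.euler k X M = (hh k M 0 : ℤ) - hh k M 1 := by
  haveI := CurvLib.isNoetherian k (X := X)
  exact CurvLib.euler_eq_sub fun n hn => CurvLib.subsingleton_HH_of_support_dim M hM.2 hd n (by omega)

/-- Sections of an invertible module on an integral scheme of dimension at most one. -/
theorem h0_le_integral [IsIntegral X] (hX : topologicalKrullDim X ≤ (1 : ℕ)) {P : X.Modules}
    (hP : PicF.IsInvertible P) :
    (hh k P 0 : ℤ) ≤ hh k (Coh.structureModule X) 0 +
      |Curv2.euler k X P - Curv2.euler k X (Coh.structureModule X)| := by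
  haveI := CurvLib.isNoetherian k (X := X)
  have hO := DevissLib.isCoh_structureModule X
  have hPc := CurvLib.isCoh_of_isInvertible hP
  rcases eq_or_ne (hh k P 0) 0 with h0 | h0
  · rw [h0]
    have := abs_nonneg (Curv2.euler k X P - Curv2.euler k X (Coh.structureModule X))
    positivity
  haveI : Nontrivial (Coh.HH X P 0) := Module.nontrivial_of_finrank_pos (Nat.pos_of_ne_zero h0)
  obtain ⟨φ, hφ⟩ := CurvLib.exists_hom_ne_zero (L := P) this
  haveI : Mono φ := CurvLib.mono_of_ne_zero CurvLib.isInvertible_structureModule hP hφ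
  let S : ShortComplex X.Modules := ShortComplex.mk φ (cokernel.π φ) (cokernel.condition φ)
  have hS : S.ShortExact :=
    { exact := ShortComplex.exact_cokernel φ, mono_f := inferInstanceAs (Mono φ)
      epi_g := inferInstanceAs (Epi (cokernel.π φ)) }
  have hC : Coh.IsCoh (cokernel φ) := QCohLib.isCoh_cokernel φ hO.1 hPc
  have hgen := CurvLib.generic_notMem_support_cokernel CurvLib.isInvertible_structureModule hP hφ
  have hd : topologicalKrullDim (CohB1.support (cokernel φ)) ≤ (0 : ℕ) := by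
    refine dim_le_iff.mp (dim_lt_of_notMem (QCohLib.isClosed_support _ hC.2) (fun z _ => ?_) hgen
      (Y := Set.univ) (Set.subset_univ _) (dim_le_iff.mpr ((topologicalKrullDim_subspace_le _ _).trans hX)))
    rw [(genericPoint_spec X).def]; exact trivial
  have h1 := hh_mid_le (k := k) hS hO hPc hC 0
  have h2 := CurvLib.euler_eq_h0 (k := k) hC (by exact_mod_cast hd)
  have h3 := CurvLib.euler_add_of_isCoh (k := k) hS hO hPc hC
  change Curv2.euler k X P = Curv2.euler k X (Coh.structureModule X) + Curv2.euler k X (cokernel φ) at h3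
  change hh k P 0 ≤ hh k (Coh.structureModule X) 0 + hh k (cokernel φ) 0 at h1
  have h4 : Curv2.euler k X (cokernel φ) = (hh k (cokernel φ) 0 : ℤ) := h2
  have := le_abs_self (Curv2.euler k X P - Curv2.euler k X (Coh.structureModule X))
  omega

/-- Sections of a twist of the structure sheaf of an integral subscheme of dimension at most one. -/
theorem h0_twist_le {η : X} (hη : topologicalKrullDim (closure ({η} : Set X)) ≤ (1 : ℕ)) {T : X.Modules}
    (hT : PicF.IsInvertible T) :
    (hh k (CohB1.tensorMod T (Fpt η)) 0 : ℤ) ≤ hh k (Fpt η) 0 + |N k [T] (Fpt η)| := by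
  haveI := CurvLib.isNoetherian k (X := X)
  haveI := isIntegral_ptIdeal η
  let W := (ptIdeal η).subscheme
  let ι : W ⟶ X := (ptIdeal η).subschemeι
  letI : W.Over (Spec (CommRingCat.of k)) := ⟨ι ≫ (X ↘ Spec (CommRingCat.of k))⟩
  haveI : IsProper (W ↘ Spec (CommRingCat.of k)) :=
    inferInstanceAs (IsProper (ι ≫ (X ↘ Spec (CommRingCat.of k))))
  have hW : topologicalKrullDim W ≤ (1 : ℕ) := by
    refine le_trans (le_of_eq ?_) hη
    exact (ι.isEmbedding.toHomeomorph.trans
      (Homeomorph.setCongr (range_ptIdeal η))).isHomeomorph.topologicalKrullDim_eq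
  have hT' := AmpleDevLib.isInvertible_pb ι hT
  let pr := @asIso _ _ _ _ (ProjFormLib.projApp ι T (Coh.structureModule W))
    (ProjFormLib.isIso_projApp ι
      (CurveVBLib.isFinLocFree_of_rank (CurvLib.locFree_of_isInvertible hT)) _)
  let B := CohB1.tensorMod (pb ι T) (Coh.structureModule W)
  haveI : Coh.IsQCoh B := (HilbPolyLib.isCoh_tensor hT' (isCoh_structureModule _)).1
  haveI : Coh.IsQCoh (Coh.structureModule W) := (isCoh_structureModule _).1
  let e : CohB1.tensorMod T (Fpt η) ≅ (Coh.push ι).obj B := pr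
  have hB : B ≅ pb ι T := swapIso _ _ ≪≫ unitLeft _
  have h1 := h0_le_integral (k := k) (X := W) hW hT'
  have e1 : hh k (CohB1.tensorMod T (Fpt η)) 0 = hh k (pb ι T) 0 := by
    rw [hh_congr e 0, ← hh_congr hB 0]
    exact ((PushLinLib.euler_push k ι rfl B).1 0).symm
  have e2 : hh k (Fpt η) 0 = hh k (Coh.structureModule W) 0 :=
    ((PushLinLib.euler_push k ι rfl (Coh.structureModule W)).1 0).symm
  have e3 : Curv2.euler k W (pb ι T) - Curv2.euler k W (Coh.structureModule W) = N k [T] (Fpt η) := by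
    rw [N, N, N, CurvLib.euler_congr e, ← CurvLib.euler_congr hB,
      ← (PushLinLib.euler_push k ι rfl B).2]
    exact congrArg (Curv2.euler k W B - ·) (PushLinLib.euler_push k ι rfl (Coh.structureModule W)).2
  rw [e1, e2, ← e3]
  exact h1

/-- `h⁰` and `h¹` of the twists grow at most linearly. -/
def LinBd (k : Type u) [Field k] {X : Scheme.{u}} [X.Over (Spec (CommRingCat.of k))] (D A M : X.Modules) : Prop :=
  ∃ C : ℕ, ∀ m s, hh k (CohB1.tensorMod (tw D A m s) M) 0 ≤ C * (m + s + 1) ∧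
    hh k (CohB1.tensorMod (tw D A m s) M) 1 ≤ C * (m + s + 1)

theorem N_tw {D A F : X.Modules} (hD : PicF.IsInvertible D) (hA : PicF.IsInvertible A) (hF : Coh.IsCoh F)
    (hd : topologicalKrullDim (CohB1.support F) ≤ (1 : ℕ)) (m s : ℕ) :
    N k [tw D A m s] F = m * N k [D] F + s * N k [A] F := by
  rw [tw, N_tensor (l := []) (by simp) (AmpleThLib.tensorPow_isInvertible hD m)
    (AmpleThLib.tensorPow_isInvertible hA s) hF hd, N_pow (l := []) (by simp) hD hF hd,
    N_pow (l := []) (by simp) hA hF hd]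

theorem linBd_Fpt {D A : X.Modules} (hD : PicF.IsInvertible D) (hA : PicF.IsInvertible A) {η : X}
    (hη : topologicalKrullDim (closure ({η} : Set X)) ≤ (1 : ℕ)) : LinBd k D A (Fpt η) := by
  haveI := CurvLib.isNoetherian k (X := X)
  have hc := coh_Fpt k η
  have hd : topologicalKrullDim (CohB1.support (Fpt η)) ≤ (1 : ℕ) := by rw [supp_Fpt k]; exact hη
  refine ⟨hh k (Fpt η) 0 + (Curv2.euler k X (Fpt η)).natAbs + 2 * (N k [D] (Fpt η)).natAbs +
    2 * (N k [A] (Fpt η)).natAbs, fun m s => ?_⟩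
  have hT := tw_inv hD hA m s
  have h0 := h0_twist_le (k := k) hη hT
  rw [N_tw hD hA hc hd] at h0
  have h1 := euler_eq_of_dim_one (k := k) (HilbPolyLib.isCoh_tensor hT hc)
    (by rw [HilbPolyLib.support_tensor hT]; exact hd)
  have h2 : N k [tw D A m s] (Fpt η) = Curv2.euler k X (CohB1.tensorMod (tw D A m s) (Fpt η)) -
      Curv2.euler k X (Fpt η) := rfl
  rw [N_tw hD hA hc hd] at h2
  set a := N k [D] (Fpt η)
  set b := N k [A] (Fpt η)
  set e := Curv2.euler k X (Fpt η)
  set f := hh k (Fpt η) 0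
  have ha : |(m : ℤ) * a + s * b| ≤ m * |a| + s * |b| := by
    refine (abs_add_le _ _).trans (le_of_eq ?_)
    rw [abs_mul, abs_mul, Nat.abs_cast, Nat.abs_cast]
  have ha2 : |(m : ℤ) * a + s * b| ≥ -((m : ℤ) * a + s * b) := neg_le_abs _
  have he : -|e| ≤ e := neg_abs_le e
  constructor
  all_goals
    zify
    nlinarith [abs_nonneg a, abs_nonneg b, abs_nonneg e, Int.natCast_nonneg f, Int.natCast_nonneg m,
      Int.natCast_nonneg s, mul_nonneg (Int.natCast_nonneg m) (abs_nonneg e),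
      mul_nonneg (Int.natCast_nonneg s) (abs_nonneg e), mul_nonneg (Int.natCast_nonneg m) (Int.natCast_nonneg f),
      mul_nonneg (Int.natCast_nonneg s) (Int.natCast_nonneg f), mul_nonneg (Int.natCast_nonneg m) (abs_nonneg a),
      mul_nonneg (Int.natCast_nonneg s) (abs_nonneg a), mul_nonneg (Int.natCast_nonneg m) (abs_nonneg b),
      mul_nonneg (Int.natCast_nonneg s) (abs_nonneg b)]

theorem isCoh_twist {T M : X.Modules} (hT : PicF.IsInvertible T) (hM : Coh.IsCoh M) :
    Coh.IsCoh ((CurvLib.tensorLeft' T).obj M) := HilbPolyLib.isCoh_tensor hT hM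

theorem ses_all {S : ShortComplex X.Modules} (hS : S.ShortExact) (c1 : Coh.IsCoh S.X₁) (c2 : Coh.IsCoh S.X₂)
    (c3 : Coh.IsCoh S.X₃) (p : ℕ) :
    hh k S.X₂ p ≤ hh k S.X₁ p + hh k S.X₃ p ∧ hh k S.X₃ p ≤ hh k S.X₂ p + hh k S.X₁ (p + 1) ∧
      hh k S.X₁ (p + 1) ≤ hh k S.X₃ p + hh k S.X₂ (p + 1) ∧ hh k S.X₁ 0 ≤ hh k S.X₂ 0 :=
  ⟨hh_mid_le (k := k) hS c1 c2 c3 p, hh_right_le (k := k) hS c1 c2 c3 p, hh_left_le (k := k) hS c1 c2 c3 p,
    hh_left_zero_le (k := k) hS c1 c2 c3⟩

theorem ses_mk {A B C : X.Modules} (f : A ⟶ B) (g : B ⟶ C) (w : f ≫ g = 0)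
    (hS : (ShortComplex.mk f g w).ShortExact) (c1 : Coh.IsCoh A) (c2 : Coh.IsCoh B)
    (c3 : Coh.IsCoh C) (p : ℕ) :
    hh k B p ≤ hh k A p + hh k C p ∧ hh k C p ≤ hh k B p + hh k A (p + 1) ∧
      hh k A (p + 1) ≤ hh k C p + hh k B (p + 1) ∧ hh k A 0 ≤ hh k B 0 :=
  ses_all hS c1 c2 c3 p

theorem ses_tw {D A : X.Modules} (hD : PicF.IsInvertible D) (hA : PicF.IsInvertible A) {S : ShortComplex X.Modules}
    (hS : S.ShortExact) (h₁ : Coh.IsCoh S.X₁) (h₂ : Coh.IsCoh S.X₂) (h₃ : Coh.IsCoh S.X₃) (m s p : ℕ) :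
    hh k (CohB1.tensorMod (tw D A m s) S.X₂) p ≤
        hh k (CohB1.tensorMod (tw D A m s) S.X₁) p + hh k (CohB1.tensorMod (tw D A m s) S.X₃) p ∧
      hh k (CohB1.tensorMod (tw D A m s) S.X₃) p ≤
        hh k (CohB1.tensorMod (tw D A m s) S.X₂) p + hh k (CohB1.tensorMod (tw D A m s) S.X₁) (p + 1) ∧
      hh k (CohB1.tensorMod (tw D A m s) S.X₁) (p + 1) ≤
        hh k (CohB1.tensorMod (tw D A m s) S.X₃) p + hh k (CohB1.tensorMod (tw D A m s) S.X₂) (p + 1) ∧
      hh k (CohB1.tensorMod (tw D A m s) S.X₁) 0 ≤ hh k (CohB1.tensorMod (tw D A m s) S.X₂) 0 :=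
  ses_mk (k := k) ((CurvLib.tensorLeft' (tw D A m s)).map S.f) ((CurvLib.tensorLeft' (tw D A m s)).map S.g) _
    (HilbPolyLib.shortExact_tensor (tw_inv hD hA m s) hS)
    (isCoh_twist (tw_inv hD hA m s) h₁) (isCoh_twist (tw_inv hD hA m s) h₂) (isCoh_twist (tw_inv hD hA m s) h₃) p

/-- Linear growth for coherent modules with support of dimension at most one. -/
theorem linBd {D A : X.Modules} (hD : PicF.IsInvertible D) (hA : PicF.IsInvertible A) {Q : X.Modules}
    (hQ : Coh.IsCoh Q) (hd : topologicalKrullDim (CohB1.support Q) ≤ (1 : ℕ)) : LinBd k D A Q := by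
  haveI := CurvLib.isNoetherian k (X := X)
  have hiso : ∀ M M' : X.Modules, Nonempty (M ≅ M') → LinBd k D A M → LinBd k D A M' := by
    rintro M M' ⟨e⟩ ⟨C, hC⟩
    exact ⟨C, fun m s => by
      rw [← hh_congr (congrRight (tw D A m s) e) 0, ← hh_congr (congrRight (tw D A m s) e) 1]; exact hC m s⟩
  rcases (CohB1.support Q).eq_empty_or_nonempty with he | hne
  · refine ⟨0, fun m s => ?_⟩
    have hz := isZero_of_support_empty ((HilbPolyLib.support_tensor (tw_inv hD hA m s) Q).trans he)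
    rw [hh_eq_zero hz, hh_eq_zero hz]
    simp
  refine DevissLib.devissage (LinBd k D A) hiso (CohB1.support Q) ?_ hne ?_ (QCohLib.isClosed_support Q hQ.2)
    Q hQ subset_rfl
  · intro S hS h₁ h₂ h₃ hY
    have hd' : ∀ M : X.Modules, CohB1.support M ⊆ CohB1.support Q → Coh.IsCoh M → ∀ m s,
        hh k (CohB1.tensorMod (tw D A m s) M) 2 = 0 := fun M hM hMc m s =>
      hh_two_eq_zero (HilbPolyLib.isCoh_tensor (tw_inv hD hA m s) hMc)
        (by rw [HilbPolyLib.support_tensor (tw_inv hD hA m s)]; exact (dim_mono hM).trans hd) le_rfl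
    haveI := hS.mono_f
    haveI := hS.epi_g
    have hY1 := (support_mono S.f).trans hY
    have ses := ses_tw (k := k) hD hA hS h₁ h₂ h₃
    refine ⟨?_, ?_, ?_⟩
    · rintro ⟨C₁, h1⟩ ⟨C₂, h2⟩
      refine ⟨C₁ + C₂, fun m s => ?_⟩
      obtain ⟨-, a, -, -⟩ := ses m s 0
      obtain ⟨-, b, -, -⟩ := ses m s 1
      have := hd' S.X₁ hY1 h₁ m s
      have := h1 m s
      have := h2 m s
      try simp only [Nat.reduceAdd] at *
      rw [add_mul]
      constructor <;> omega
    · rintro ⟨C₁, h1⟩ ⟨C₃, h3⟩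
      refine ⟨C₁ + C₃, fun m s => ?_⟩
      obtain ⟨a, -, -, -⟩ := ses m s 0
      obtain ⟨b, -, -, -⟩ := ses m s 1
      have := h1 m s
      have := h3 m s
      try simp only [Nat.reduceAdd] at *
      rw [add_mul]
      constructor <;> omega
    · rintro ⟨C₂, h2⟩ ⟨C₃, h3⟩
      refine ⟨C₂ + C₃, fun m s => ?_⟩
      obtain ⟨-, -, b, a⟩ := ses m s 0
      have := h2 m s
      have := h3 m s
      try simp only [Nat.reduceAdd] at *
      rw [add_mul]
      constructor <;> omega
  · intro η hη hcl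
    obtain ⟨hG, hGs, hGe⟩ := generator η
    exact ⟨_, hG, hGs, hGe, linBd_Fpt hD hA ((dim_mono hcl).trans hd)⟩

end HodgeIdxLib
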