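import Groth.Agent.HodgeIdxLib.Bound
import Groth.Agent.IntMultLib.Asymp
import Groth.Agent.SerreVanLib.Main
import Groth.Agent.S2325
import Groth.Agent.IntFunLib.StrictNef

/-!
# Classes orthogonal to an ample class on a projective surface
-/

set_option autoImplicit false
set_option linter.style.haveILetI false
universe u

open CategoryTheory CategoryTheory.Limits AlgebraicGeometry TopologicalSpace Opposite
open HilbPolyLib DevissLib IntMultLib IntFunLib

noncomputable section

namespace HodgeIdxLib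

theorem exists_hom_of_gg {X : Scheme.{u}} {F : X.Modules} (h : Curv2.IsGloballyGenerated F)
    (hne : (CohB1.support F).Nonempty) : ∃ φ : Coh.structureModule X ⟶ F, φ ≠ 0 := by
  obtain ⟨ι, p, hp⟩ := h
  by_contra hc
  push Not at hc
  have hp0 : p = 0 := Sigma.hom_ext (f := fun _ : ι => (SheafOfModules.unit X.ringCatSheaf : X.Modules)) _ _
    fun i => (hc _).trans comp_zero.symm
  subst hp0
  have hz : IsZero F := (IsZero.iff_id_eq_zero _).mpr
    ((cancel_epi (0 : (SheafOfModules.free ι : X.Modules) ⟶ F)).mp (zero_comp.trans zero_comp.symm))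
  rw [support_of_isZero hz] at hne
  exact Set.not_nonempty_empty hne

variable {k : Type u} [Field k] {X : Scheme.{u}} [X.Over (Spec (CommRingCat.of k))]
  [IsProper (X ↘ Spec (CommRingCat.of k))]

theorem hh_pos_of_hom {L : X.Modules} (hL : Coh.IsCoh L) (h : hh k L 0 ≠ 0) :
    ∃ φ : Coh.structureModule X ⟶ L, φ ≠ 0 := by
  haveI : Nontrivial (Coh.HH X L 0) := Module.nontrivial_of_finrank_pos (Nat.pos_of_ne_zero h)
  exact CurvLib.exists_hom_ne_zero (L := L) this

theorem N_unit (l : List X.Modules) (A : X.Modules) :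
    N k (A :: l) (Coh.structureModule X) = N k l A - N k l (Coh.structureModule X) := by
  rw [N, N_congr l (show CohB1.tensorMod A (Coh.structureModule X) ≅ A from swapIso _ _ ≪≫ unitLeft _)]

/-- Riemann–Roch for a tensor product, by definition of the intersection numbers. -/
theorem euler_tensor (P Q : X.Modules) :
    Curv2.euler k X (CohB1.tensorMod Q P) = Curv2.euler k X P + Curv2.euler k X Q -
      Curv2.euler k X (Coh.structureModule X) + N k [P, Q] (Coh.structureModule X) := by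
  have h : N k [P, Q] (Coh.structureModule X) = N k [Q] P - N k [Q] (Coh.structureModule X) := N_unit [Q] P
  have h' : N k [Q] (Coh.structureModule X) = Curv2.euler k X Q - Curv2.euler k X (Coh.structureModule X) :=
    N_unit [] Q
  have h'' : N k [Q] P = Curv2.euler k X (CohB1.tensorMod Q P) - Curv2.euler k X P := rfl
  omega

section Surface

variable (hX : topologicalKrullDim X ≤ (2 : ℕ))

include hX

theorem N2_pow_left {P Q : X.Modules} (hP : PicF.IsInvertible P) (hQ : PicF.IsInvertible Q) (m : ℕ) :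
    N k [CohB1.tensorPow P m, Q] (Coh.structureModule X) = m * N k [P, Q] (Coh.structureModule X) :=
  N_pow (l := [Q]) (by simpa using hQ) hP (DevissLib.isCoh_structureModule X)
    ((topologicalKrullDim_subspace_le _ _).trans hX) m

theorem N2_comm (P Q : X.Modules) :
    N k [P, Q] (Coh.structureModule X) = N k [Q, P] (Coh.structureModule X) :=
  N_perm (List.Perm.swap Q P []) _

theorem N2_pow_right {P Q : X.Modules} (hP : PicF.IsInvertible P) (hQ : PicF.IsInvertible Q) (m : ℕ) :
    N k [P, CohB1.tensorPow Q m] (Coh.structureModule X) = m * N k [P, Q] (Coh.structureModule X) := by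
  rw [N2_comm hX, N2_pow_left hX hQ hP, N2_comm hX P Q]

theorem euler_pow {P : X.Modules} (hP : PicF.IsInvertible P) : ∀ m : ℕ,
    2 * Curv2.euler k X (CohB1.tensorPow P m) =
      2 * Curv2.euler k X (Coh.structureModule X) +
        2 * m * (Curv2.euler k X P - Curv2.euler k X (Coh.structureModule X)) +
        m * ((m : ℤ) - 1) * N k [P, P] (Coh.structureModule X)
  | 0 => by
    rw [show Curv2.euler k X (CohB1.tensorPow P 0) = Curv2.euler k X (Coh.structureModule X) from rfl]
    push_cast; ring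
  | m + 1 => by
    rw [CohB1.tensorPow, euler_tensor, N2_pow_right hX hP hP m]
    push_cast
    linear_combination euler_pow hP m

theorem euler_tw {D A : X.Modules} (hD : PicF.IsInvertible D) (hA : PicF.IsInvertible A) (m s : ℕ) :
    2 * Curv2.euler k X (tw D A m s) =
      (m : ℤ) * m * N k [D, D] (Coh.structureModule X) + (s : ℤ) * s * N k [A, A] (Coh.structureModule X) +
        2 * m * s * N k [A, D] (Coh.structureModule X) +
        m * (2 * (Curv2.euler k X D - Curv2.euler k X (Coh.structureModule X)) -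
          N k [D, D] (Coh.structureModule X)) +
        s * (2 * (Curv2.euler k X A - Curv2.euler k X (Coh.structureModule X)) -
          N k [A, A] (Coh.structureModule X)) + 2 * Curv2.euler k X (Coh.structureModule X) := by
  rw [tw, euler_tensor, N2_pow_left hX hA (AmpleThLib.tensorPow_isInvertible hD m), N2_pow_right hX hA hD]
  linear_combination euler_pow (k := k) hX hD m + euler_pow (k := k) hX hA s

end Surface

theorem exists_tw_iso (D A : X.Modules) (m s : ℕ) : ∀ j : ℕ,
    Nonempty (CohB1.tensorMod (tw D A m s) (CohB1.tensorPow A j) ≅ tw D A m (s + j)) := fun j => by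
  obtain ⟨e⟩ := IntMultLib.nonempty_tensorPow_add A s j
  exact ⟨assocIso _ _ _ ≪≫ congrRight (CohB1.tensorPow D m) e.symm⟩

theorem exists_tw_succ (D A : X.Modules) (m s : ℕ) :
    Nonempty (CohB1.tensorMod (tw D A m s) A ≅ tw D A m (s + 1)) :=
  ⟨assocIso _ _ _⟩

variable (k) in
include k in
theorem dim_cokernel_le [IsIntegral X] {n : ℕ} (hX : topologicalKrullDim X = ((n + 1 : ℕ) : WithBot ℕ∞))
    {M : X.Modules} (hM : PicF.IsInvertible M) {φ : Coh.structureModule X ⟶ M} (hφ : φ ≠ 0) :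
    Coh.IsCoh (cokernel φ) ∧ topologicalKrullDim (CohB1.support (cokernel φ)) ≤ (n : ℕ) := by
  haveI := CurvLib.isNoetherian k (X := X)
  have hC : Coh.IsCoh (cokernel φ) :=
    QCohLib.isCoh_cokernel φ (DevissLib.isCoh_structureModule X).1 (CurvLib.isCoh_of_isInvertible hM)
  have hgen := CurvLib.generic_notMem_support_cokernel CurvLib.isInvertible_structureModule hM hφ
  refine ⟨hC, dim_le_iff.mp (dim_lt_of_notMem (QCohLib.isClosed_support _ hC.2) (fun z _ => ?_) hgen
    (Y := Set.univ) (Set.subset_univ _) (dim_le_iff.mpr ((topologicalKrullDim_subspace_le _ _).trans hX.le)))⟩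
  rw [(genericPoint_spec X).def]; exact trivial

theorem cokSeq_shortExact [IsIntegral X] {M : X.Modules} (hM : PicF.IsInvertible M)
    {φ : Coh.structureModule X ⟶ M} (hφ : φ ≠ 0) :
    (ShortComplex.mk φ (cokernel.π φ) (cokernel.condition φ)).ShortExact :=
  haveI : Mono φ := CurvLib.mono_of_ne_zero CurvLib.isInvertible_structureModule hM hφ
  { exact := ShortComplex.exact_cokernel φ, mono_f := inferInstanceAs (Mono φ)
    epi_g := inferInstanceAs (Epi (cokernel.π φ)) }

theorem ses_left {T : X.Modules} (hT : PicF.IsInvertible T) {S : ShortComplex X.Modules} (hS : S.ShortExact)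
    (h₁ : Coh.IsCoh S.X₁) (h₂ : Coh.IsCoh S.X₂) (h₃ : Coh.IsCoh S.X₃) (p : ℕ) :
    hh k (CohB1.tensorMod T S.X₂) p ≤ hh k (CohB1.tensorMod T S.X₁) p + hh k (CohB1.tensorMod T S.X₃) p :=
  (ses_mk (k := k) ((CurvLib.tensorLeft' T).map S.f) ((CurvLib.tensorLeft' T).map S.g) _
    (HilbPolyLib.shortExact_tensor hT hS) (isCoh_twist hT h₁) (isCoh_twist hT h₂) (isCoh_twist hT h₃) p).1

theorem ses_cok [IsIntegral X] {M T : X.Modules} (hM : PicF.IsInvertible M) (hT : PicF.IsInvertible T)
    {φ : Coh.structureModule X ⟶ M} (hφ : φ ≠ 0) (hC : Coh.IsCoh (cokernel φ)) (p : ℕ) :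
    hh k (CohB1.tensorMod T M) p ≤ hh k T p + hh k (CohB1.tensorMod T (cokernel φ)) p := by
  have h := ses_left (k := k) hT (cokSeq_shortExact hM hφ) (DevissLib.isCoh_structureModule X)
    (CurvLib.isCoh_of_isInvertible hM) hC p
  rw [← hh_congr (k := k) (show CohB1.tensorMod T (Coh.structureModule X) ≅ T from swapIso _ _ ≪≫ unitLeft _) p]
  exact h

theorem N_ample_self_pos [IsIntegral X] (hX : topologicalKrullDim X = ((2 : ℕ) : WithBot ℕ∞)) {A : X.Modules}
    (hA : CohB1.IsAmple A) : 0 < N k [A, A] (Coh.structureModule X) := by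
  have h := N_ample_pos (k := k) (d := 2) hA (ξ := genericPoint X) (by rw [dim_closure_generic, hX])
  rw [← N_structure (by simp [hA.1]) (by rw [hX]; simp)] at h
  exact h

theorem arith {q h K a b c e : ℤ} {m : ℤ} (hq : 0 < q) (hh : 0 < h) (he : 0 ≤ e) (hK : 0 ≤ K)
    (hm : K + |a| + K + |c| + (|b| + K) ^ 2 + 1 ≤ m) (s : ℤ) (hs : 0 ≤ s)
    (hle : m * m * q + s * s * h + 2 * m * s * e + m * a + s * b + c ≤ K * (m + s + 1)) : False := by
  have hme : 0 ≤ 2 * m * s * e := by
    have : 0 ≤ m := by nlinarith [abs_nonneg a, abs_nonneg c, sq_nonneg (|b| + K)]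
    positivity
  have h1 : -(m * |a|) ≤ m * a := by
    have hm0 : 0 ≤ m := by nlinarith [abs_nonneg a, abs_nonneg c, sq_nonneg (|b| + K)]
    nlinarith [neg_abs_le a]
  have h2 : -(s * |b|) ≤ s * b := by nlinarith [neg_abs_le b]
  have h3 : s * s ≤ s * s * h := by nlinarith [mul_self_nonneg s]
  have h4 : -(|b| + K) ^ 2 ≤ s * s - s * (|b| + K) := by nlinarith [sq_nonneg (s - (|b| + K)), mul_nonneg hs (add_nonneg (abs_nonneg b) hK)]
  have h5 : m * m ≤ m * m * q := by nlinarith [mul_self_nonneg m]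
  have h6 : -|c| ≤ c := neg_abs_le c
  have hm1 : 1 ≤ m := by nlinarith [abs_nonneg a, abs_nonneg c, sq_nonneg (|b| + K)]
  nlinarith [abs_nonneg a, abs_nonneg c, sq_nonneg (|b| + K)]

/-- Classes of positive square on the side of an ample class have sections in all high powers. -/
theorem exists_section [IsIntegral X] (hX : topologicalKrullDim X = ((2 : ℕ) : WithBot ℕ∞)) {D A : X.Modules}
    (hD : PicF.IsInvertible D) (hA : CohB1.IsAmple A) (hq : 0 < N k [D, D] (Coh.structureModule X))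
    (h : 0 ≤ N k [D, A] (Coh.structureModule X)) :
    ∃ m₀ : ℕ, ∀ m, m₀ ≤ m → ∃ φ : Coh.structureModule X ⟶ CohB1.tensorPow D m, φ ≠ 0 := by
  haveI := CurvLib.isNoetherian k (X := X)
  haveI : Nonempty X := ⟨genericPoint X⟩
  have hX' : topologicalKrullDim X ≤ (2 : ℕ) := hX.le
  obtain ⟨B, hA1, hBD, σ, hσ⟩ : ∃ B : X.Modules, CohB1.IsAmple B ∧ 0 ≤ N k [B, D] (Coh.structureModule X) ∧
      ∃ σ : Coh.structureModule X ⟶ B, σ ≠ 0 := by
    obtain ⟨n, σ, hn, hσ⟩ := exists_section_pow hA
    exact ⟨_, (AmpleThLib.isAmple_tensorPow_iff hA.1 hn).mp hA, by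
      rw [N2_pow_left hX' hA.1 hD, N2_comm hX']
      exact mul_nonneg (Int.natCast_nonneg n) h, σ, hσ⟩
  haveI : X.IsSeparated := ⟨by rw [← terminal.comp_from (X ↘ Spec (CommRingCat.of k))]; infer_instance⟩
  obtain ⟨hQc, hQd⟩ := dim_cokernel_le k (n := 1) hX hA1.1 hσ
  obtain ⟨C, hC⟩ := linBd (k := k) hD hA1.1 hQc hQd
  obtain ⟨n₀, hn₀⟩ := SerreVanLib.exists_vanishing (X ↘ Spec (CommRingCat.of k)) hA1.1 hA1
    (Coh.structureModule X) (DevissLib.isCoh_structureModule X)
  obtain ⟨a, ha⟩ : ∃ a : ℤ, 2 * (Curv2.euler k X D - Curv2.euler k X (Coh.structureModule X)) -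
      N k [D, D] (Coh.structureModule X) = a := ⟨_, rfl⟩
  obtain ⟨b, hb⟩ : ∃ b : ℤ, 2 * (Curv2.euler k X B - Curv2.euler k X (Coh.structureModule X)) -
      N k [B, B] (Coh.structureModule X) = b := ⟨_, rfl⟩
  obtain ⟨c, hc⟩ : ∃ c : ℤ, 2 * Curv2.euler k X (Coh.structureModule X) = c := ⟨_, rfl⟩
  set K : ℤ := 2 * ((n₀ : ℤ) + 1) * C with hK
  have hK0 : 0 ≤ K := by positivity
  refine ⟨(K + |a| + K + |c| + (|b| + K) ^ 2 + 1).toNat, fun m hm' => ?_⟩
  have hm : K + |a| + K + |c| + (|b| + K) ^ 2 + 1 ≤ (m : ℤ) :=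
    (Int.self_le_toNat _).trans (by exact_mod_cast hm')
  have hDm := AmpleThLib.tensorPow_isInvertible hD m
  by_contra hno
  push Not at hno
  have hsec0 : ∀ φ : Coh.structureModule X ⟶ CohB1.tensorPow D m, φ = 0 := hno
  have hex : ∃ s, ∃ φ : Coh.structureModule X ⟶ tw D B m s, φ ≠ 0 := by
    obtain ⟨s₀, hs₀⟩ := Groth.Agent.S2325.result X B hA1 (CohB1.tensorPow D m) (CurvLib.isCoh_of_isInvertible hDm)
    refine ⟨s₀, exists_hom_of_gg (hs₀ s₀ le_rfl) ?_⟩
    rw [tw, HilbPolyLib.support_tensor hDm, DevissLib.support_iso (show CohB1.tensorPow B s₀ ≅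
      CohB1.tensorMod (CohB1.tensorPow B s₀) (Coh.structureModule X) from (swapIso _ _ ≪≫ unitLeft _).symm),
      HilbPolyLib.support_tensor (AmpleThLib.tensorPow_isInvertible hA1.1 s₀), support_structureModule']
    exact Set.univ_nonempty
  classical
  obtain ⟨s₁, ⟨φ, hφ⟩, hmin⟩ : ∃ s, (∃ φ : Coh.structureModule X ⟶ tw D B m s, φ ≠ 0) ∧
      ∀ s' < s, ¬ ∃ φ : Coh.structureModule X ⟶ tw D B m s', φ ≠ 0 :=
    ⟨Nat.find hex, Nat.find_spec hex, fun _ hs => Nat.find_min hex hs⟩
  obtain ⟨t, ht⟩ : ∃ t, s₁ = t + 1 := by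
    cases s₁ with
    | succ t => exact ⟨t, rfl⟩
    | zero =>
      exfalso
      let e0 : tw D B m 0 ≅ CohB1.tensorPow D m := swapIso _ _ ≪≫ unitLeft _
      exact hφ ((cancel_mono e0.hom).mp ((hsec0 (φ ≫ e0.hom)).trans zero_comp.symm))
  have h00 : hh k (tw D B m t) 0 = 0 := by
    by_contra h0
    exact hmin t (by omega) (hh_pos_of_hom (CurvLib.isCoh_of_isInvertible (tw_inv hD hA1.1 m t)) h0)
  have hstep : ∀ j, hh k (tw D B m (t + j)) 0 ≤ j * (C * (m + (t + j) + 1)) := by
    intro j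
    induction j with
    | zero => simp [h00]
    | succ j ih =>
      have hT := tw_inv hD hA1.1 m (t + j)
      have h1 := ses_cok (k := k) hA1.1 hT hσ hQc 0
      rw [hh_congr (exists_tw_succ D B m (t + j)).some 0] at h1
      have h2 := (hC m (t + j)).1
      change hh k (tw D B m (t + j + 1)) 0 ≤ _
      rw [show t + (j + 1) = t + j + 1 by omega]
      calc hh k (tw D B m (t + j + 1)) 0 ≤ hh k (tw D B m (t + j)) 0 +
            hh k (CohB1.tensorMod (tw D B m (t + j)) (cokernel σ)) 0 := h1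
        _ ≤ j * (C * (m + (t + j) + 1)) + C * (m + (t + j) + 1) := Nat.add_le_add ih h2
        _ ≤ (j + 1) * (C * (m + (t + j + 1) + 1)) := by
          have : C * (m + (t + j) + 1) ≤ C * (m + (t + j + 1) + 1) := Nat.mul_le_mul_left _ (by omega)
          rw [add_mul, one_mul]
          exact Nat.add_le_add (Nat.mul_le_mul_left _ this) this
  have h2 : hh k (tw D B m (s₁ + n₀)) 2 = 0 := by
    obtain ⟨hc', hd'⟩ := dim_cokernel_le k (n := 1) hX (tw_inv hD hA1.1 m s₁) hφ
    have hP := AmpleThLib.tensorPow_isInvertible hA1.1 n₀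
    have h1 := ses_cok (k := k) (tw_inv hD hA1.1 m s₁) hP hφ hc' 2
    have ez : hh k (CohB1.tensorMod (CohB1.tensorPow B n₀) (cokernel φ)) 2 = 0 :=
      hh_two_eq_zero (HilbPolyLib.isCoh_tensor hP hc') (by rw [HilbPolyLib.support_tensor hP]; exact hd') le_rfl
    haveI := hn₀ n₀ le_rfl 2 (by norm_num)
    have ev : hh k (CohB1.tensorPow B n₀) 2 = 0 := by
      rw [← hh_congr (k := k) (unitLeft (CohB1.tensorPow B n₀)) 2]
      exact Module.finrank_zero_of_subsingleton
    rw [hh_congr (swapIso _ _ ≪≫ (exists_tw_iso D B m s₁ n₀).some) 2] at h1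
    omega
  set s := s₁ + n₀ with hsdef
  have heu : Curv2.euler k X (tw D B m s) ≤ ((n₀ : ℤ) + 1) * (C * ((m : ℤ) + s + 1)) := by
    rw [CurvLib.euler_eq_sum (d := 3) fun i hi =>
      CurvLib.subsingleton_HH_of_dim_le (tw D B m s) hX' i (by omega)]
    rw [Finset.sum_range_succ, Finset.sum_range_succ, Finset.sum_range_one]
    have h0 := hstep (n₀ + 1)
    rw [show t + (n₀ + 1) = s by omega] at h0
    change (-1 : ℤ) ^ 0 * (hh k (tw D B m s) 0 : ℤ) + (-1 : ℤ) ^ 1 * (hh k (tw D B m s) 1 : ℤ) +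
      (-1 : ℤ) ^ 2 * (hh k (tw D B m s) 2 : ℤ) ≤ _
    rw [h2]
    have h0' : (hh k (tw D B m s) 0 : ℤ) ≤ ((n₀ : ℤ) + 1) * (C * ((m : ℤ) + s + 1)) := by exact_mod_cast h0
    push_cast
    nlinarith [Int.natCast_nonneg (hh k (tw D B m s) 1)]
  have hR := euler_tw (k := k) hX' hD hA1.1 m s
  rw [ha, hb, hc] at hR
  refine arith (q := N k [D, D] (Coh.structureModule X)) hq (N_ample_self_pos (k := k) hX hA1) hBD hK0 hm (s : ℤ) (Int.natCast_nonneg s) ?_
  rw [hK]
  nlinarith [heu]

/-- The numbers of a section of an invertible module are those of its cokernel. -/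
theorem N_cokernel [IsIntegral X] (hX : topologicalKrullDim X = ((2 : ℕ) : WithBot ℕ∞)) {P T : X.Modules}
    (hP : PicF.IsInvertible P) (hT : PicF.IsInvertible T) {φ : Coh.structureModule X ⟶ P} (hφ : φ ≠ 0) :
    N k [T] (cokernel φ) = N k [P, T] (Coh.structureModule X) := by
  have hadd := N_add (k := k) (l := [T]) (by simpa using hT) (cokSeq_shortExact hP hφ)
    (DevissLib.isCoh_structureModule X) (CurvLib.isCoh_of_isInvertible hP) (dim_cokernel_le k (n := 1) hX hP hφ).1
  change N k [T] P = N k [T] (Coh.structureModule X) + N k [T] (cokernel φ) at hadd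
  rw [N_unit]
  omega

/-- Modules with a section meet an ample module nonnegatively. -/
theorem nonneg_of_section [IsIntegral X] (hX : topologicalKrullDim X = ((2 : ℕ) : WithBot ℕ∞)) {P A : X.Modules}
    (hP : PicF.IsInvertible P) (hA : CohB1.IsAmple A) {φ : Coh.structureModule X ⟶ P} (hφ : φ ≠ 0) :
    0 ≤ N k [P, A] (Coh.structureModule X) := by
  obtain ⟨hc, hd⟩ := dim_cokernel_le k (n := 1) hX hP hφ
  rw [← N_cokernel hX hP hA.1 hφ]
  exact N_nonneg (l := [A]) (by simpa using hA.1) hc hd fun ξ _ hξ => (N_ample_pos (k := k) (d := 1) hA hξ).le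

/-- A module with a section and degree zero against an ample module has all numbers zero. -/
theorem zero_of_section [IsIntegral X] (hX : topologicalKrullDim X = ((2 : ℕ) : WithBot ℕ∞)) {P A T : X.Modules}
    (hP : PicF.IsInvertible P) (hA : CohB1.IsAmple A) (hT : PicF.IsInvertible T) {φ : Coh.structureModule X ⟶ P}
    (hφ : φ ≠ 0) (h : N k [P, A] (Coh.structureModule X) = 0) : N k [P, T] (Coh.structureModule X) = 0 := by
  haveI := CurvLib.isNoetherian k (X := X)
  obtain ⟨hc, hd⟩ := dim_cokernel_le k (n := 1) hX hP hφ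
  rw [← N_cokernel hX hP hT hφ]
  refine N_low (k := k) (l := [T]) (by simpa using hT) hc
    (dim_lt_of_points (QCohLib.isClosed_support _ hc.2) fun y hy => ?_)
  refine lt_of_le_of_ne ((dim_mono ((QCohLib.isClosed_support _ hc.2).closure_subset_iff.mpr
    (Set.singleton_subset_iff.mpr hy))).trans hd) fun hy1 => ?_
  have hpos := N_pos (k := k) (l := [A]) (by simpa using hA.1) hc hd hy hy1 fun ξ _ hξ =>
    N_ample_pos (k := k) (d := 1) hA hξ
  rw [N_cokernel hX hP hA.1 hφ, h] at hpos
  exact lt_irrefl _ hpos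

/-- **The index inequality**: a class orthogonal to an ample class has nonpositive square. -/
theorem light [IsIntegral X] (hX : topologicalKrullDim X = ((2 : ℕ) : WithBot ℕ∞)) {D A : X.Modules}
    (hD : PicF.IsInvertible D) (hA : CohB1.IsAmple A) (h : N k [D, A] (Coh.structureModule X) = 0) :
    N k [D, D] (Coh.structureModule X) ≤ 0 := by
  by_contra hq
  push Not at hq
  obtain ⟨m₀, hm₀⟩ := exists_section (k := k) hX hD hA hq h.ge
  obtain ⟨φ, hφ⟩ := hm₀ (m₀ + 1) (by omega)
  have hDm := AmpleThLib.tensorPow_isInvertible hD (m₀ + 1)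
  have h0 := zero_of_section (k := k) hX hDm hA hD hφ (by rw [N2_pow_left hX.le hD hA.1, h, mul_zero])
  rw [N2_pow_left hX.le hD hD] at h0
  exact (mul_pos (show (0 : ℤ) < ((m₀ + 1 : ℕ) : ℤ) by exact_mod_cast Nat.succ_pos m₀) hq).ne' h0

end HodgeIdxLib
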